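import Cfsg.Agent.Lib.Helper6.TC13
import Cfsg.Agent.Lib.Helper6.TCD.M11a.Par
import Cfsg.Agent.Lib.Helper6.TCD.M11X.QX
set_option autoImplicit false
set_option maxRecDepth 1000000
set_option Elab.async false
open Cfsg.Agent.Lib.Helper6.TC
namespace Cfsg.Agent.Lib.Helper6.TCD.M11X
open Cfsg.Agent.Lib.Helper6.TCD.M11a
noncomputable def XW (p : Nat) : Nat := P1 (P0 p)
noncomputable def XP (p : Nat) : Nat := QX (QX (QX (QX (QX (QX (QX (QX (QX (QX (QX p))))))))))
end Cfsg.Agent.Lib.Helper6.TCD.M11X
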